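import Mathlib
import Cfsg.Agent.Helper2.Stb.UnivMain

set_option autoImplicit false
set_option linter.unusedSectionVars false
set_option linter.unusedSimpArgs false
set_option linter.unusedVariables false

/-! S2399: central extensions of the group presented by (R1), (R2) over a field of
characteristic `p` split as soon as the `p`-th power map of the kernel is bijective: the
canonical lift of `x_r(t)` is the one whose `p`-th power is trivial. -/

namespace Cfsg.Agent.S2399P

open Cfsg.Lie Cfsg.Agent.Helper6 Cfsg.Agent.Helper2.StPerf Cfsg.Agent.Helper2.Stb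
open scoped commutatorElement

/-- if the commutator of `a` and `b` is central, `b ^ p = 1`, and the central commutator has no
`p`-torsion, then `a` and `b` commute -/
theorem comm_of_pow_eq_one {E : Type*} [Group E] {p : ℕ} {a b : E}
    (hcen : a * b * a⁻¹ * b⁻¹ ∈ Subgroup.center E) (hb : b ^ p = 1)
    (htf : (a * b * a⁻¹ * b⁻¹) ^ p = 1 → a * b * a⁻¹ * b⁻¹ = 1) : a * b = b * a := by
  obtain ⟨c, hcdef⟩ : ∃ c : E, c = a * b * a⁻¹ * b⁻¹ := ⟨_, rfl⟩
  rw [← hcdef] at hcen htf
  have e1 : a * b * a⁻¹ = c * b := by rw [hcdef]; group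
  have e2 : (a * b * a⁻¹) ^ p = 1 := by rw [conj_pow, hb, mul_one, mul_inv_cancel]
  have hcb : Commute c b := (Subgroup.mem_center_iff.1 hcen b).symm
  rw [e1, hcb.mul_pow, hb, mul_one] at e2
  have h1 := htf e2
  calc a * b = c * (b * a) := by rw [hcdef]; group
    _ = b * a := by rw [h1, one_mul]

variable {D : ChevalleyDatum} {F : Type*} [Field F] {M : Type*} [Group M]

section main

variable {X : ℕ → F → M} (h : R12 D X) (hD : IsTabulated D) (π : M →* GL D.Idx F)
  (hπ : ∀ r < D.nroots, ∀ t : F, π (X r t) = xU (basicOK_of_tabulated hD) r t)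
  {E : Type*} [Group E] (ψ : E →* M) (hc : ψ.ker ≤ Subgroup.center E)
  (p : ℕ) [CharP F p]
  (htf : ∀ z ∈ ψ.ker, z ^ p = 1 → z = 1)
  (Y : ℕ → F → E) (hYX : ∀ r < D.nroots, ∀ t : F, ψ (Y r t) = X r t)
  (hYadd : ∀ r < D.nroots, ∀ t u : F, Y r t * Y r u = Y r (t + u))

include hYadd in
theorem Y_zero {r : ℕ} (hr : r < D.nroots) : Y r 0 = 1 := by
  have h1 := hYadd r hr 0 0
  rw [add_zero] at h1
  have h' : Y r 0 * Y r 0 = Y r 0 * 1 := by rw [mul_one]; exact h1
  exact mul_left_cancel h'

include hYadd in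
theorem Y_pow {r : ℕ} (hr : r < D.nroots) (t : F) (n : ℕ) : Y r t ^ n = Y r ((n : F) * t) := by
  induction n with
  | zero => rw [pow_zero, Nat.cast_zero, zero_mul, Y_zero Y hYadd hr]
  | succ n ih =>
    rw [pow_succ, ih, hYadd r hr]
    congr 1
    push_cast
    ring

include hYadd in
theorem Y_pow_char {r : ℕ} (hr : r < D.nroots) (t : F) : Y r t ^ p = 1 := by
  rw [Y_pow Y hYadd hr, CharP.cast_eq_zero F p, zero_mul, Y_zero Y hYadd hr]

include hYX in
theorem map_wordX_Y {w : List (ℕ × F)} (hw : ∀ q ∈ w, q.1 < D.nroots) :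
    ψ (wordX Y w) = wordX X w := by
  rw [map_wordX']
  apply wordX_congr
  intro q hq
  exact hYX q.1 (hw q hq) q.2

include hc htf hYX hYadd in
/-- the lifts of commuting root elements commute -/
theorem Y_comm {r s : ℕ} (hr : r < D.nroots) (hs : s < D.nroots) (t u : F)
    (hX : X r t * X s u = X s u * X r t) : Y r t * Y s u = Y s u * Y r t := by
  have hk : Y r t * Y s u * (Y r t)⁻¹ * (Y s u)⁻¹ ∈ ψ.ker := by
    rw [MonoidHom.mem_ker, map_mul, map_mul, map_mul, map_inv, map_inv, hYX r hr, hYX s hs, hX]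
    group
  exact comm_of_pow_eq_one (hc hk) (Y_pow_char p Y hYadd hs u) (htf _ hk)

include h hπ hYX hYadd in
/-- the transfer principle: the additivity identity for the right-hand side of (R2) holds for
the lifts as soon as the lower relations do -/
theorem hadd_of_good' {P : ℕ → ℕ → Prop} (hY : R12On D Y P) {r s : ℕ} (hr : r < D.nroots)
    (hs : s < D.nroots) (h1 : s ≠ r) (h2 : s ≠ D.neg r)
    (hG : GoodLP (basicOK_of_tabulated hD) F P (s :: (D.commTerms r s).map (·.1)))
    (t u u' : F) :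
    (Y s u')⁻¹ * wordX Y (D.commWord F r s t u) * Y s u' *
      wordX Y (D.commWord F r s t u') = wordX Y (D.commWord F r s t (u + u')) := by
  have hB := basicOK_of_tabulated hD
  have hlt := hG.lt
  have hw : ∀ t u : F, ∀ q ∈ D.commWord F r s t u, q.1 < D.nroots := by
    intro t u q hq
    obtain ⟨c, hc', e⟩ := commWord_fst_mem hq
    rw [e]
    exact hlt _ (List.mem_cons_of_mem _ (List.mem_map.2 ⟨c, hc', rfl⟩))
  have hwm : ∀ t u : F, wordX Y (D.commWord F r s t u) ∈
      UL Y (s :: (D.commTerms r s).map (·.1)) := by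
    intro t u
    apply wordX_mem_UL
    intro q hq
    obtain ⟨c, hc', e⟩ := commWord_fst_mem hq
    rw [e]
    exact List.mem_cons_of_mem _ (List.mem_map.2 ⟨c, hc', rfl⟩)
  have hsm : ∀ a : F, Y s a ∈ UL Y (s :: (D.commTerms r s).map (·.1)) := fun a =>
    X_mem_UL Y List.mem_cons_self a
  have hπY : ∀ k < D.nroots, ∀ a : F, (π.comp ψ) (Y k a) = xU (basicOK_of_tabulated hD) k a := by
    intro k hk a
    rw [MonoidHom.comp_apply, hYX k hk, hπ k hk]
  refine eq_of_goodP hY (basicOK_of_tabulated hD) (π.comp ψ) hπY hG ?_ (hwm t (u + u')) ?_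
  · exact Subgroup.mul_mem _ (Subgroup.mul_mem _ (Subgroup.mul_mem _
      (Subgroup.inv_mem _ (hsm u')) (hwm t u)) (hsm u')) (hwm t u')
  · rw [MonoidHom.comp_apply, MonoidHom.comp_apply]
    congr 1
    rw [map_mul, map_mul, map_mul, map_inv, hYX s hs,
      map_wordX_Y ψ Y hYX (hw t u), map_wordX_Y ψ Y hYX (hw t u'),
      map_wordX_Y ψ Y hYX (hw t (u + u')), ← h.comm r hr s hs h1 h2,
      ← h.comm r hr s hs h1 h2, ← h.comm r hr s hs h1 h2, ← h.add s hs u u']
    group

include h hc htf hYX hYadd in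
/-- the relation (R2) for a pair of roots, from the additivity of the right-hand side -/
theorem r2_of_additive' {r s : ℕ} (hr : r < D.nroots) (hs : s < D.nroots)
    (h1 : s ≠ r) (h2 : s ≠ D.neg r) (hterms : ∀ c ∈ D.commTerms r s, c.1 < D.nroots)
    (Hadd : ∀ t u u' : F, (Y s u')⁻¹ * wordX Y (D.commWord F r s t u) * Y s u' *
      wordX Y (D.commWord F r s t u') = wordX Y (D.commWord F r s t (u + u')))
    (t u : F) :
    (Y s u)⁻¹ * (Y r t)⁻¹ * Y s u * Y r t = wordX Y (D.commWord F r s t u) := by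
  have hw : ∀ t u : F, ∀ q ∈ D.commWord F r s t u, q.1 < D.nroots := by
    intro t u q hq
    obtain ⟨c, hc', e⟩ := commWord_fst_mem hq
    rw [e]
    exact hterms c hc'
  obtain ⟨lhs, hlhs⟩ : ∃ lhs : F → E, ∀ u, lhs u = (Y s u)⁻¹ * (Y r t)⁻¹ * Y s u * Y r t :=
    ⟨_, fun _ => rfl⟩
  obtain ⟨rhs, hrhs⟩ : ∃ rhs : F → E, ∀ u, rhs u = wordX Y (D.commWord F r s t u) :=
    ⟨_, fun _ => rfl⟩
  have hmap : ∀ u, ψ (lhs u) = ψ (rhs u) := by
    intro u
    rw [hlhs, hrhs, map_mul, map_mul, map_mul, map_inv, map_inv, hYX s hs, hYX r hr,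
      map_wordX_Y ψ Y hYX (hw t u), h.comm r hr s hs h1 h2]
  obtain ⟨d, hd⟩ : ∃ d : F → E, ∀ u, d u = lhs u * (rhs u)⁻¹ := ⟨_, fun _ => rfl⟩
  have hdk : ∀ u, d u ∈ ψ.ker := fun u => by
    rw [MonoidHom.mem_ker, hd, map_mul, map_inv, hmap, mul_inv_cancel]
  have hdc : ∀ u, d u ∈ Subgroup.center E := fun u => hc (hdk u)
  have hl : ∀ u, lhs u = d u * rhs u := by
    intro u; rw [hd]; group
  have hdadd : ∀ u u', d (u + u') = d u * d u' := by
    intro u u'
    have e1 : lhs (u + u') = (Y s u')⁻¹ * lhs u * Y s u' * lhs u' := by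
      rw [hlhs, hlhs, hlhs, ← hYadd s hs u u']
      group
    have e2 : (Y s u')⁻¹ * (d u * rhs u) * Y s u' * (d u' * rhs u') =
        d u * d u' * ((Y s u')⁻¹ * rhs u * Y s u' * rhs u') := by
      have c1 := Subgroup.mem_center_iff.1 (hdc u)
      have c2 := Subgroup.mem_center_iff.1 (hdc u')
      calc (Y s u')⁻¹ * (d u * rhs u) * Y s u' * (d u' * rhs u')
          = ((Y s u')⁻¹ * d u) * rhs u * Y s u' * (d u' * rhs u') := by group
        _ = (d u * (Y s u')⁻¹) * rhs u * Y s u' * (d u' * rhs u') := by rw [c1]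
        _ = d u * (((Y s u')⁻¹ * rhs u * Y s u') * d u') * rhs u' := by group
        _ = d u * (d u' * ((Y s u')⁻¹ * rhs u * Y s u')) * rhs u' := by rw [c2]
        _ = _ := by group
    rw [hd (u + u'), e1, hl u, hl u', e2, hrhs u, hrhs u', Hadd, ← hrhs]
    group
  have hd0 : d 0 = 1 := by
    have h1 := hdadd 0 0
    rw [add_zero] at h1
    have h' : d 0 * d 0 = d 0 * 1 := by rw [mul_one]; exact h1.symm
    exact mul_left_cancel h'
  have hdpow : ∀ (n : ℕ) (u : F), d u ^ n = d ((n : F) * u) := by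
    intro n u
    induction n with
    | zero => rw [pow_zero, Nat.cast_zero, zero_mul, hd0]
    | succ n ih =>
      rw [pow_succ, ih, ← hdadd]
      congr 1
      push_cast
      ring
  have key : d u = 1 := by
    apply htf _ (hdk u)
    rw [hdpow, CharP.cast_eq_zero F p, zero_mul, hd0]
  rw [hd, hlhs, hrhs] at key
  exact mul_inv_eq_one.1 key

include h hπ hc htf hYX hYadd in
/-- the lifts satisfy the relations (R1) and (R2) -/
theorem r12_Y
    (hP : ∀ r < D.nroots, ∀ s < D.nroots, s ≠ r → s ≠ D.neg r → D.commTerms r s ≠ [] →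
      GoodLP (basicOK_of_tabulated hD) F
        (fun a b => (D.commTerms a b).length < (D.commTerms r s).length)
        (s :: (D.commTerms r s).map (·.1))) : R12 D Y := by
  have main : ∀ n : ℕ, ∀ r < D.nroots, ∀ s < D.nroots, s ≠ r → s ≠ D.neg r →
      (D.commTerms r s).length = n → ∀ t u : F,
      (Y s u)⁻¹ * (Y r t)⁻¹ * Y s u * Y r t = wordX Y (D.commWord F r s t u) := by
    intro n
    induction n using Nat.strong_induction_on with
    | _ n ih =>
      intro r hr s hs h1 h2 hlen t u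
      by_cases hnil : D.commTerms r s = []
      · have hcommX : X r t * X s u = X s u * X r t := by
          have := h.comm r hr s hs h1 h2 t u
          unfold ChevalleyDatum.commWord at this
          rw [hnil, List.map_nil, wordX_nil] at this
          calc X r t * X s u = X s u * X r t * ((X s u)⁻¹ * (X r t)⁻¹ * X s u * X r t)⁻¹ := by
                group
            _ = X s u * X r t := by rw [this, inv_one, mul_one]
        have hcm := Y_comm ψ hc p htf Y hYX hYadd hr hs t u hcommX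
        unfold ChevalleyDatum.commWord
        rw [hnil, List.map_nil, wordX_nil]
        calc (Y s u)⁻¹ * (Y r t)⁻¹ * Y s u * Y r t
            = (Y s u)⁻¹ * (Y r t)⁻¹ * (Y s u * Y r t) := by group
          _ = 1 := by rw [← hcm]; group
      · have hG := hP r hr s hs h1 h2 hnil
        have hY : R12On D Y
            (fun a b => (D.commTerms a b).length < (D.commTerms r s).length) :=
          ⟨hYadd, fun a ha b hb hb1 hb2 hlt t u =>
            ih _ (hlen ▸ hlt) a ha b hb hb1 hb2 rfl t u⟩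
        have hterms : ∀ c ∈ D.commTerms r s, c.1 < D.nroots := fun c hc' =>
          hG.lt _ (List.mem_cons_of_mem _ (List.mem_map.2 ⟨c, hc', rfl⟩))
        exact r2_of_additive' h ψ hc p htf Y hYX hYadd hr hs h1 h2 hterms
          (hadd_of_good' h hD π hπ ψ Y hYX hYadd hY hr hs h1 h2 hG) t u
  exact ⟨hYadd, fun r hr s hs h1 h2 t u => main _ r hr s hs h1 h2 rfl t u⟩

end main

/-- every central extension of the group presented by (R1), (R2) over a field of characteristic
`p` splits when the `p`-th power map of the kernel is bijective -/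
theorem exists_section_charp {K : Type*} [Field K] (p : ℕ) [CharP K p] (hD : IsTabulated D)
    {ws : List (List ℕ)} (hG : pairsChk D ws = true)
    {E : Type*} [Group E] (ψ : E →* D.SteinbergCover K) (hψ : Function.Surjective ψ)
    (hc : ψ.ker ≤ Subgroup.center E)
    (htf : ∀ z ∈ ψ.ker, z ^ p = 1 → z = 1)
    (hdiv : ∀ z ∈ ψ.ker, ∃ w ∈ ψ.ker, w ^ p = z) :
    ∃ σ : D.SteinbergCover K →* E, ψ.comp σ = MonoidHom.id _ := by
  have hsub : D.steinbergRelsAB K ⊆ D.steinbergRelsAB K := subset_rfl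
  have hθ : ∀ (r : ℕ) (t : K), r < D.nroots →
      ((thetaAB hD K (pX D (D.steinbergRelsAB K) r t) : GL D.Idx K) : Matrix D.Idx D.Idx K) =
        D.x K r t := fun r t hr => thetaAB_apply hD r t hr
  obtain ⟨X, hX⟩ : ∃ X : ℕ → K → D.SteinbergCover K, X = pX D (D.steinbergRelsAB K) := ⟨_, rfl⟩
  have h : R12 D X := by rw [hX]; exact r12_pX hsub
  obtain ⟨π, hπdef⟩ : ∃ π : D.SteinbergCover K →* GL D.Idx K,
      π = (D.group K).subtype.comp (thetaAB hD K) := ⟨_, rfl⟩
  have hπ : ∀ r < D.nroots, ∀ t : K, π (X r t) = xU (basicOK_of_tabulated hD) r t := by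
    rw [hX, hπdef]; exact hπ_of hD hsub _ hθ
  -- the root elements have order dividing `p`
  have hXp : ∀ r < D.nroots, ∀ t : K, X r t ^ p = 1 := by
    intro r hr t
    have hpow : ∀ n : ℕ, X r t ^ n = X r ((n : K) * t) := by
      intro n
      induction n with
      | zero => rw [pow_zero, Nat.cast_zero, zero_mul, X_zero h hr]
      | succ n ih =>
        rw [pow_succ, ih, h.add r hr]
        congr 1
        push_cast
        ring
    rw [hpow, CharP.cast_eq_zero K p, zero_mul, X_zero h hr]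
  -- canonical lifts
  have hex : ∀ (r : ℕ) (t : K), ∃ e : E, r < D.nroots → ψ e = X r t ∧ e ^ p = 1 := by
    intro r t
    by_cases hr : r < D.nroots
    · obtain ⟨e0, he0⟩ := hψ (X r t)
      have hk : (e0 ^ p)⁻¹ ∈ ψ.ker := by
        rw [MonoidHom.mem_ker, map_inv, map_pow, he0, hXp r hr, inv_one]
      obtain ⟨w, hwk, hw⟩ := hdiv _ hk
      refine ⟨e0 * w, fun _ => ⟨?_, ?_⟩⟩
      · rw [map_mul, he0, MonoidHom.mem_ker.1 hwk, mul_one]
      · have hcm : Commute e0 w := (Subgroup.mem_center_iff.1 (hc hwk) e0)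
        rw [hcm.mul_pow, hw, mul_inv_cancel]
    · exact ⟨1, fun hr' => absurd hr' hr⟩
  choose Y hY using hex
  have hYX : ∀ r < D.nroots, ∀ t : K, ψ (Y r t) = X r t := fun r hr t => (hY r t hr).1
  have hYp : ∀ r < D.nroots, ∀ t : K, Y r t ^ p = 1 := fun r hr t => (hY r t hr).2
  -- uniqueness of the lifts of order dividing `p`
  have huniq : ∀ e e' : E, ψ e = ψ e' → e ^ p = 1 → e' ^ p = 1 → e = e' := by
    intro e e' hee he he'
    have hk : e⁻¹ * e' ∈ ψ.ker := by
      rw [MonoidHom.mem_ker, map_mul, map_inv, hee, inv_mul_cancel]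
    have hcm : Commute e (e⁻¹ * e') := (Subgroup.mem_center_iff.1 (hc hk) e)
    have e1 : e' = e * (e⁻¹ * e') := by group
    have e2 : (e⁻¹ * e') ^ p = 1 := by
      have := he'
      rw [e1, hcm.mul_pow, he, one_mul] at this
      exact this
    have := htf _ hk e2
    rw [e1, this, mul_one]
  have hYadd : ∀ r < D.nroots, ∀ t u : K, Y r t * Y r u = Y r (t + u) := by
    intro r hr t u
    have hXc : X r t * X r u = X r u * X r t := by
      rw [h.add r hr, h.add r hr, add_comm]
    have hk : Y r t * Y r u * (Y r t)⁻¹ * (Y r u)⁻¹ ∈ ψ.ker := by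
      rw [MonoidHom.mem_ker, map_mul, map_mul, map_mul, map_inv, map_inv, hYX r hr, hYX r hr,
        hXc]
      group
    have hcm : Commute (Y r t) (Y r u) :=
      comm_of_pow_eq_one (hc hk) (hYp r hr u) (htf _ hk)
    apply huniq
    · rw [map_mul, hYX r hr, hYX r hr, hYX r hr, h.add r hr]
    · rw [hcm.mul_pow, hYp r hr, hYp r hr, one_mul]
    · exact hYp r hr _
  have hPO : ∀ r < D.nroots, ∀ s < D.nroots, s ≠ r → s ≠ D.neg r → D.commTerms r s ≠ [] →
      GoodLP (basicOK_of_tabulated hD) K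
        (fun a b => (D.commTerms a b).length < (D.commTerms r s).length)
        (s :: (D.commTerms r s).map (·.1)) := by
    intro r hr s hs h1 h2 hne
    have hG' := hG
    simp only [pairsChk, allLt_iff, Bool.or_eq_true, decide_eq_true_eq, List.isEmpty_iff] at hG'
    rcases hG' r hr s hs with ((e | e) | e) | e
    · exact absurd e h1
    · exact absurd e h2
    · exact absurd e hne
    · exact goodLP_of_chk hD ws _ _ e
  have hR := r12_Y h hD π hπ ψ hc p htf Y hYX hYadd hPO
  have hrels : ∀ g ∈ D.steinbergRelsAB K,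
      FreeGroup.lift (fun a : Fin D.nroots × K => Y a.1.val a.2) g = 1 := by
    intro g hg
    rcases hg with ⟨r, t₁, t₂, hr, rfl⟩ | ⟨r, s, t, u, hr, hs, h1, h2, rfl⟩
    · rw [map_mul, map_mul, map_inv, lift_stX_gen Y hr, lift_stX_gen Y hr, lift_stX_gen Y hr,
        mul_inv_eq_one]
      exact hR.add r hr t₁ t₂
    · have hw : ∀ q ∈ D.commWord K r s t u, q.1 < D.nroots := by
        intro q hq
        obtain ⟨c, hc', e⟩ := commWord_fst_mem hq
        rw [e]
        have hne : D.commTerms r s ≠ [] := List.ne_nil_of_mem hc'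
        exact (hPO r hr s hs h1 h2 hne).lt _
          (List.mem_cons_of_mem _ (List.mem_map.2 ⟨c, hc', rfl⟩))
      rw [map_mul, map_mul, map_mul, map_mul, map_inv, map_inv, map_inv, lift_stX_gen Y hr,
        lift_stX_gen Y hs, lift_stWord_gen Y _ hw, mul_inv_eq_one]
      exact hR.comm r hr s hs h1 h2 t u
  refine ⟨PresentedGroup.toGroup hrels, ?_⟩
  apply PresentedGroup.ext
  intro a
  rw [MonoidHom.comp_apply, PresentedGroup.toGroup.of, MonoidHom.id_apply,
    hYX a.1.val a.1.isLt, hX]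
  unfold pX ChevalleyDatum.stX
  rw [dif_pos a.1.isLt]
  rfl

end Cfsg.Agent.S2399P
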