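import Mathlib
import Cfsg.Agent.Helper2.S2399.Core
import Cfsg.Agent.Helper2.S2398.Core

set_option autoImplicit false
set_option linter.unusedSectionVars false
set_option linter.unusedSimpArgs false
set_option linter.unusedVariables false

/-! S2399: projective representations in the natural characteristic lift. The pullback of
`SL_n(L) → PGL_n(L)` along a homomorphism from the (perfect) group presented by (R1), (R2) is a
central extension whose kernel consists of scalar matrices `r` with `r ^ n = 1`; in characteristic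
`p` the `p`-th power map of this kernel is bijective, so the extension splits. -/

namespace Cfsg.Agent.S2399P

open Cfsg.Lie Cfsg.Agent.Helper6 Cfsg.Agent.Helper2.StPerf Cfsg.Agent.Helper2.Stb
open scoped commutatorElement MatrixGroups

/-- an element of finite order, none of whose powers has order `p`, is a `p`-th power of one of
its powers -/
theorem exists_pow_eq_of_torsion {G : Type*} [Group G] {p n : ℕ} (hp : p.Prime) (hn : 0 < n)
    (z : G) (hz : z ^ n = 1) (htf : ∀ k : ℕ, (z ^ k) ^ p = 1 → z ^ k = 1) :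
    ∃ m : ℕ, (z ^ m) ^ p = z := by
  have hfin : IsOfFinOrder z := isOfFinOrder_iff_pow_eq_one.2 ⟨n, hn, hz⟩
  have hpos : 0 < orderOf z := hfin.orderOf_pos
  have hcop : Nat.Coprime p (orderOf z) := by
    rw [Nat.Prime.coprime_iff_not_dvd hp]
    rintro ⟨k, hk⟩
    have h1 : (z ^ k) ^ p = 1 := by rw [← pow_mul, mul_comm, ← hk, pow_orderOf_eq_one]
    have h2 := htf k h1
    have h3 := orderOf_dvd_of_pow_eq_one h2
    have hk0 : 0 < k := by
      rcases Nat.eq_zero_or_pos k with rfl | h
      · rw [mul_zero] at hk; omega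
      · exact h
    have h4 := Nat.le_of_dvd hk0 h3
    rw [hk] at h4
    have := hp.two_le
    nlinarith
  obtain ⟨m, hm⟩ := exists_pow_eq_self_of_coprime hcop
  exact ⟨m, by rw [← pow_mul, mul_comm, pow_mul]; exact hm⟩

/-- two lifts of a homomorphism from a perfect group through a central extension are equal -/
theorem lift_unique_of_perfect {M G₁ E : Type*} [Group M] [Group G₁] [Group E]
    (hperf : commutator M = ⊤) (π₁ : E →* G₁) (hc : π₁.ker ≤ Subgroup.center E)
    (τ τ' : M →* E) (hτ : π₁.comp τ = π₁.comp τ') : τ = τ' := by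
  have hle : commutator M ≤ τ.eqLocus τ' := by
    rw [commutator_eq_closure, Subgroup.closure_le]
    rintro _ ⟨x, y, rfl⟩
    show τ ⁅x, y⁆ = τ' ⁅x, y⁆
    rw [map_commutatorElement, map_commutatorElement]
    apply comm_eq_of_map_eq π₁ hc
    · exact congrArg (fun f => f x) hτ
    · exact congrArg (fun f => f y) hτ
  rw [hperf] at hle
  apply MonoidHom.ext
  intro x
  exact hle (Subgroup.mem_top x)

/-- the group presented by (R1), (R2) is perfect (for types `G₂`, `B₂` over a field with more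
than two elements) -/
theorem perfect_cover_gen {K : Type*} [Field K] {D : ChevalleyDatum} (hD : IsTabulated D)
    (h2 : D = chevG2 ∨ D = chevB2 → ∃ a : K, a ≠ 0 ∧ a ≠ 1) :
    commutator (D.SteinbergCover K) = ⊤ := by
  have hsub : D.steinbergRelsAB K ⊆ D.steinbergRelsAB K := subset_rfl
  have hall := inDer_of_tabulated hD (r12_pX hsub) h2
  rw [eq_top_iff, ← gen_pX (D := D) (rels := D.steinbergRelsAB K), Subgroup.closure_le]
  rintro _ ⟨r, hr, t, rfl⟩
  exact hall r hr t

/-- a central element of `SL_n(L)`, `L` of characteristic `p`, whose `p`-th power is trivial, is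
trivial -/
theorem eq_one_of_center_pow {L : Type*} [Field L] {p : ℕ} (hp : p.Prime) [CharP L p] {n : ℕ}
    {g : Matrix.SpecialLinearGroup (Fin n) L}
    (hg : g ∈ Subgroup.center (Matrix.SpecialLinearGroup (Fin n) L)) (hgp : g ^ p = 1) :
    g = 1 := by
  have : Fact p.Prime := ⟨hp⟩
  obtain ⟨r, hr, hrg⟩ := Matrix.SpecialLinearGroup.mem_center_iff.1 hg
  rcases Nat.eq_zero_or_pos n with rfl | hn
  · apply Subtype.ext
    exact Subsingleton.elim _ _
  · have : Nonempty (Fin n) := ⟨⟨0, hn⟩⟩
    have h1 : Matrix.scalar (Fin n) (r ^ p) = Matrix.scalar (Fin n) 1 := by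
      rw [map_pow, hrg, map_one, ← Matrix.SpecialLinearGroup.coe_pow, hgp,
        Matrix.SpecialLinearGroup.coe_one]
    have h2 : r ^ p = 1 := Matrix.scalar_inj.1 h1
    have h3 : r = 1 := by
      apply frobenius_inj L p
      rw [frobenius_def, frobenius_def, h2, one_pow]
    apply Subtype.ext
    rw [← hrg, h3, map_one, Matrix.SpecialLinearGroup.coe_one]

/-- a central element of `SL_n(L)` has order dividing `n` -/
theorem pow_eq_one_of_center {L : Type*} [Field L] {n : ℕ}
    {g : Matrix.SpecialLinearGroup (Fin n) L}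
    (hg : g ∈ Subgroup.center (Matrix.SpecialLinearGroup (Fin n) L)) : g ^ n = 1 := by
  obtain ⟨r, hr, hrg⟩ := Matrix.SpecialLinearGroup.mem_center_iff.1 hg
  rw [Fintype.card_fin] at hr
  apply Subtype.ext
  rw [Matrix.SpecialLinearGroup.coe_pow, ← hrg, ← map_pow, hr, map_one,
    Matrix.SpecialLinearGroup.coe_one]

/-- existence of the lift in characteristic `p` -/
theorem exists_lift_charp {K : Type*} [Field K] {D : ChevalleyDatum} (hD : IsTabulated D)
    {ws : List (List ℕ)} (hG : pairsChk D ws = true)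
    (hperf : commutator (D.SteinbergCover K) = ⊤)
    {p : ℕ} (hp : p.Prime) [CharP K p] {L : Type*} [Field L] [CharP L p] {n : ℕ}
    (σ₀ : D.SteinbergCover K →* GL (Fin n) L ⧸ Subgroup.center (GL (Fin n) L)) :
    ∃ ψ : D.SteinbergCover K →* GL (Fin n) L,
      (QuotientGroup.mk' (Subgroup.center (GL (Fin n) L))).comp ψ = σ₀ := by
  rcases Nat.eq_zero_or_pos n with rfl | hn
  · refine ⟨1, ?_⟩
    apply MonoidHom.ext
    intro δ
    obtain ⟨g, hg⟩ := QuotientGroup.mk'_surjective (Subgroup.center (GL (Fin 0) L)) (σ₀ δ)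
    rw [← hg, MonoidHom.comp_apply]
    congr 1
    apply Units.ext
    exact Subsingleton.elim _ _
  obtain ⟨ι, hι⟩ : ∃ ι : Matrix.SpecialLinearGroup (Fin n) L →* GL (Fin n) L,
      ι = Matrix.SpecialLinearGroup.toGL := ⟨_, rfl⟩
  obtain ⟨μ, hμ⟩ : ∃ μ : Matrix.SpecialLinearGroup (Fin n) L →*
      GL (Fin n) L ⧸ Subgroup.center (GL (Fin n) L),
      μ = (QuotientGroup.mk' (Subgroup.center (GL (Fin n) L))).comp ι := ⟨_, rfl⟩
  -- the image lies in the image of `SL_n`
  have hrange : ∀ δ : D.SteinbergCover K, ∃ g, μ g = σ₀ δ := by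
    have hle : commutator (D.SteinbergCover K) ≤ μ.range.comap σ₀ := by
      rw [commutator_eq_closure, Subgroup.closure_le]
      rintro _ ⟨x, y, rfl⟩
      obtain ⟨gx, hgx⟩ := QuotientGroup.mk'_surjective (Subgroup.center (GL (Fin n) L)) (σ₀ x)
      obtain ⟨gy, hgy⟩ := QuotientGroup.mk'_surjective (Subgroup.center (GL (Fin n) L)) (σ₀ y)
      show σ₀ ⁅x, y⁆ ∈ μ.range
      rw [map_commutatorElement, ← hgx, ← hgy, ← map_commutatorElement]
      have hdet : ((⁅gx, gy⁆ : GL (Fin n) L) : Matrix (Fin n) (Fin n) L).det = 1 := by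
        rw [← Matrix.GeneralLinearGroup.val_det_apply, map_commutatorElement,
          commutatorElement_eq_one_iff_mul_comm.2 (mul_comm _ _), Units.val_one]
      obtain ⟨g0, hg0⟩ : ∃ g0 : Matrix.SpecialLinearGroup (Fin n) L,
          (g0 : Matrix (Fin n) (Fin n) L) =
            ((⁅gx, gy⁆ : GL (Fin n) L) : Matrix (Fin n) (Fin n) L) := ⟨⟨_, hdet⟩, rfl⟩
      refine ⟨g0, ?_⟩
      rw [hμ, MonoidHom.comp_apply]
      congr 1
      rw [hι]
      apply Units.ext
      exact hg0
    rw [hperf] at hle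
    intro δ
    exact hle (Subgroup.mem_top δ)
  -- the pullback
  obtain ⟨P, hPdef⟩ : ∃ P : Subgroup (Matrix.SpecialLinearGroup (Fin n) L × D.SteinbergCover K),
      P = (μ.comp (MonoidHom.fst _ _)).eqLocus (σ₀.comp (MonoidHom.snd _ _)) := ⟨_, rfl⟩
  have hPmem : ∀ q : Matrix.SpecialLinearGroup (Fin n) L × D.SteinbergCover K,
      q ∈ P ↔ μ q.1 = σ₀ q.2 := by
    intro q; rw [hPdef]; rfl
  obtain ⟨ψP, hψdef⟩ : ∃ ψP : ↥P →* D.SteinbergCover K,
      ψP = (MonoidHom.snd _ _).comp P.subtype := ⟨_, rfl⟩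
  have hψa : ∀ q : ↥P, ψP q = q.1.2 := by intro q; rw [hψdef]; rfl
  have hψs : Function.Surjective ψP := by
    intro δ
    obtain ⟨g, hg⟩ := hrange δ
    exact ⟨⟨(g, δ), (hPmem _).2 hg⟩, by rw [hψa]⟩
  have hkc : ∀ q : ↥P, q ∈ ψP.ker →
      q.1.1 ∈ Subgroup.center (Matrix.SpecialLinearGroup (Fin n) L) := by
    intro q hq
    rw [MonoidHom.mem_ker, hψa] at hq
    have h1 : μ q.1.1 = 1 := by rw [(hPmem _).1 q.2, hq, map_one]
    rw [hμ, MonoidHom.comp_apply, QuotientGroup.mk'_apply, QuotientGroup.eq_one_iff, hι] at h1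
    exact (Matrix.SpecialLinearGroup.toGL_mem_center_iff _).1 h1
  have hψc : ψP.ker ≤ Subgroup.center ↥P := by
    intro q hq
    have hcen := Subgroup.mem_center_iff.1 (hkc q hq)
    rw [MonoidHom.mem_ker, hψa] at hq
    rw [Subgroup.mem_center_iff]
    intro q'
    apply Subtype.ext
    apply Prod.ext
    · exact hcen q'.1.1
    · show q'.1.2 * q.1.2 = q.1.2 * q'.1.2
      rw [hq, mul_one, one_mul]
  have htf : ∀ z ∈ ψP.ker, z ^ p = 1 → z = 1 := by
    intro z hz hzp
    have h1 : z.1.1 ^ p = 1 := by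
      have := congrArg (fun q : ↥P => q.1.1) hzp
      exact this
    have h2 := eq_one_of_center_pow hp (hkc z hz) h1
    rw [MonoidHom.mem_ker, hψa] at hz
    apply Subtype.ext
    apply Prod.ext
    · exact h2
    · exact hz
  have hdiv : ∀ z ∈ ψP.ker, ∃ w ∈ ψP.ker, w ^ p = z := by
    intro z hz
    have hzn : z ^ n = 1 := by
      have h1 := pow_eq_one_of_center (hkc z hz)
      have hz' := hz
      rw [MonoidHom.mem_ker, hψa] at hz'
      apply Subtype.ext
      apply Prod.ext
      · exact h1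
      · show z.1.2 ^ n = 1
        rw [hz', one_pow]
    obtain ⟨m, hm⟩ := exists_pow_eq_of_torsion hp hn z hzn
      (fun k hk => htf _ (Subgroup.pow_mem _ hz k) hk)
    exact ⟨z ^ m, Subgroup.pow_mem _ hz m, hm⟩
  obtain ⟨s, hs⟩ := exists_section_charp p hD hG ψP hψs hψc htf hdiv
  have hs' : ∀ x, (s x).1.2 = x := by
    intro x
    have := congrArg (fun f => f x) hs
    simp only [MonoidHom.comp_apply, MonoidHom.id_apply] at this
    rw [hψa] at this
    exact this
  refine ⟨ι.comp ((MonoidHom.fst _ _).comp (P.subtype.comp s)), ?_⟩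
  apply MonoidHom.ext
  intro x
  show (QuotientGroup.mk' (Subgroup.center (GL (Fin n) L))) (ι (s x).1.1) = σ₀ x
  have := (hPmem _).1 (s x).2
  rw [hμ, MonoidHom.comp_apply, hs'] at this
  exact this

end Cfsg.Agent.S2399P
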